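import Cfsg.Agent.Lib.PSL2.Basic
import Cfsg.Agent.Lib.ClassicalGroups.PermModel

/-!
Element orders of `PSL(2,13)`.
-/

set_option autoImplicit false
set_option maxRecDepth 100000

namespace CfsgLib.KnownSimple.GTwoThree

open Matrix

local notation "SL13" => Matrix.SpecialLinearGroup (Fin 2) (ZMod 13)
local notation "P13" => Matrix.ProjectiveSpecialLinearGroup (Fin 2) (ZMod 13)

/-- Multiplication of coded two by two matrices modulo 13. -/
def mul13 (p q : ℕ × ℕ × ℕ × ℕ) : ℕ × ℕ × ℕ × ℕ :=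
  ((p.1 * q.1 + p.2.1 * q.2.2.1) % 13, (p.1 * q.2.1 + p.2.1 * q.2.2.2) % 13,
    (p.2.2.1 * q.1 + p.2.2.2 * q.2.2.1) % 13, (p.2.2.1 * q.2.1 + p.2.2.2 * q.2.2.2) % 13)

/-- Powers of coded matrices. -/
def pow13 (p : ℕ × ℕ × ℕ × ℕ) : ℕ → ℕ × ℕ × ℕ × ℕ
  | 0 => (1, 0, 0, 1)
  | n + 1 => mul13 p (pow13 p n)

/-- A coded scalar. -/
def isScalar13 (p : ℕ × ℕ × ℕ × ℕ) : Bool :=
  Nat.beq p.2.1 0 && Nat.beq p.2.2.1 0 && Nat.beq p.1 p.2.2.2

theorem orders13_check : ((List.range 13).all fun a => (List.range 13).all fun b =>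
    (List.range 13).all fun c => (List.range 13).all fun d =>
      !(Nat.beq ((a * d + 12 * (b * c)) % 13) 1) || isScalar13 (pow13 (a, b, c, d) 6) ||
        isScalar13 (pow13 (a, b, c, d) 7) || isScalar13 (pow13 (a, b, c, d) 13)) = true := by
  decide +kernel

/-- The matrix of a code. -/
def toM13 (p : ℕ × ℕ × ℕ × ℕ) : Matrix (Fin 2) (Fin 2) (ZMod 13) :=
  !![(p.1 : ZMod 13), (p.2.1 : ZMod 13); (p.2.2.1 : ZMod 13), (p.2.2.2 : ZMod 13)]

theorem toM13_mul (p q : ℕ × ℕ × ℕ × ℕ) : toM13 (mul13 p q) = toM13 p * toM13 q := by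
  ext i j
  fin_cases i <;> fin_cases j <;> simp [toM13, mul13, Matrix.mul_apply, Fin.sum_univ_two]

theorem toM13_pow (p : ℕ × ℕ × ℕ × ℕ) : ∀ n, toM13 (pow13 p n) = toM13 p ^ n
  | 0 => by
    rw [pow_zero]
    ext i j
    fin_cases i <;> fin_cases j <;> simp [toM13, pow13]
  | n + 1 => by rw [pow_succ', ← toM13_pow p n, pow13, toM13_mul]

theorem mem_center_of_scalar {g : SL13} {p : ℕ × ℕ × ℕ × ℕ}
    (hg : (g : Matrix (Fin 2) (Fin 2) (ZMod 13)) = toM13 p) (hp : isScalar13 p = true) :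
    g ∈ Subgroup.center SL13 := by
  simp only [isScalar13, Bool.and_eq_true] at hp
  rw [Subgroup.mem_center_iff]
  intro h
  apply Subtype.ext
  rw [Matrix.SpecialLinearGroup.coe_mul, Matrix.SpecialLinearGroup.coe_mul, hg]
  have hs : toM13 p = (p.1 : ZMod 13) • (1 : Matrix (Fin 2) (Fin 2) (ZMod 13)) := by
    ext i j
    fin_cases i <;> fin_cases j <;>
      simp [toM13, Nat.eq_of_beq_eq_true hp.1.1, Nat.eq_of_beq_eq_true hp.1.2,
        ← Nat.eq_of_beq_eq_true hp.2]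
  rw [hs, Matrix.mul_smul, Matrix.smul_mul, Matrix.mul_one, Matrix.one_mul]

theorem psl13_orders (x : P13) : orderOf x ∣ 6 ∨ orderOf x ∣ 7 ∨ orderOf x ∣ 13 := by
  induction x using QuotientGroup.induction_on with
  | H g =>
    set m : Matrix (Fin 2) (Fin 2) (ZMod 13) := g.val with hm
    set p : ℕ × ℕ × ℕ × ℕ := ((m 0 0).val, (m 0 1).val, (m 1 0).val, (m 1 1).val) with hp
    have hpm : toM13 p = m := by
      ext i j
      fin_cases i <;> fin_cases j <;> simp [toM13, hp]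
    have hdet : ((p.1 * p.2.2.2 + 12 * (p.2.1 * p.2.2.1)) % 13) = 1 := by
      have h := g.2
      rw [Matrix.det_fin_two] at h
      have h2 : ((p.1 * p.2.2.2 + 12 * (p.2.1 * p.2.2.1) : ℕ) : ZMod 13) = ((1 : ℕ) : ZMod 13) := by
        simp only [hp, Nat.cast_add, Nat.cast_mul, ZMod.natCast_zmod_val, Nat.cast_one]
        rw [show ((12 : ℕ) : ZMod 13) = -1 from by decide]
        linear_combination h
      rw [ZMod.natCast_eq_natCast_iff'] at h2
      simpa using h2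
    have hlt : ∀ i j, (m i j).val < 13 := fun i j => ZMod.val_lt _
    have h := orders13_check
    simp only [List.all_eq_true, List.mem_range] at h
    have h' := h p.1 (hlt 0 0) p.2.1 (hlt 0 1) p.2.2.1 (hlt 1 0) p.2.2.2 (hlt 1 1)
    simp only [Bool.or_eq_true, Bool.not_eq_true', hdet] at h'
    have key : ∀ n, isScalar13 (pow13 p n) = true → orderOf (QuotientGroup.mk g : P13) ∣ n := by
      intro n hn
      refine orderOf_dvd_of_pow_eq_one ?_
      rw [← QuotientGroup.mk_pow, QuotientGroup.eq_one_iff]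
      refine mem_center_of_scalar (p := pow13 p n) ?_ hn
      rw [toM13_pow, hpm, Matrix.SpecialLinearGroup.coe_pow]
    rcases h' with ((h' | h') | h') | h'
    · exact absurd h' (by decide)
    · exact Or.inl (key 6 h')
    · exact Or.inr (Or.inl (key 7 h'))
    · exact Or.inr (Or.inr (key 13 h'))

theorem card_psl13 {E : Type*} [Field E] [Fintype E] (hE : Fintype.card E = 13) :
    Nat.card (Matrix.ProjectiveSpecialLinearGroup (Fin 2) E) = 1092 := by
  have h := CfsgLib.PSL2.card_psl (F := E)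
  rw [hE] at h
  rw [show Nat.gcd 2 (13 - 1) = 2 by decide] at h
  generalize Nat.card (Matrix.ProjectiveSpecialLinearGroup (Fin 2) E) = N at h ⊢
  omega

theorem exists_psl_equiv {E : Type*} [Field E] [Fintype E] (hE : Fintype.card E = 13) :
    Nonempty (Matrix.ProjectiveSpecialLinearGroup (Fin 2) E ≃* P13) := by
  have : Fact (Nat.Prime 13) := ⟨by norm_num⟩
  let σ : E ≃+* ZMod 13 := (ZMod.ringEquivOfPrime E (p := 13) Fact.out hE).symm
  exact ⟨CfsgLib.ClassicalGroups.pslFieldCongr (n := 2) σ⟩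

theorem exists_psl_six : ∃ y : P13, orderOf y = 6 := by
  obtain ⟨g, hg⟩ : ∃ g : SL13, (g : Matrix (Fin 2) (Fin 2) (ZMod 13)) = !![2, 0; 0, 7] :=
    ⟨⟨!![2, 0; 0, 7], by rw [Matrix.det_fin_two_of]; decide⟩, rfl⟩
  refine ⟨QuotientGroup.mk g, ?_⟩
  have hnc : ∀ n, (!![2, 0; 0, 7] : Matrix (Fin 2) (Fin 2) (ZMod 13)) ^ n * !![1, 1; 0, 1] ≠
      !![1, 1; 0, 1] * !![2, 0; 0, 7] ^ n → (QuotientGroup.mk g : P13) ^ n ≠ 1 := by
    intro n hn e
    rw [← QuotientGroup.mk_pow, QuotientGroup.eq_one_iff, Subgroup.mem_center_iff] at e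
    have := congrArg Subtype.val (e ⟨!![1, 1; 0, 1], by rw [Matrix.det_fin_two_of]; decide⟩)
    change !![1, 1; 0, 1] * (g ^ n : SL13).val = (g ^ n : SL13).val * !![1, 1; 0, 1] at this
    rw [Matrix.SpecialLinearGroup.coe_pow, hg] at this
    exact hn this.symm
  rw [orderOf_eq_iff (by norm_num)]
  refine ⟨?_, fun m hm hm0 => hnc m ?_⟩
  · rw [← QuotientGroup.mk_pow, QuotientGroup.eq_one_iff]
    refine mem_center_of_scalar (p := pow13 (2, 0, 0, 7) 6) ?_ (by decide +kernel)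
    rw [toM13_pow, Matrix.SpecialLinearGroup.coe_pow, hg]
    rfl
  · interval_cases m <;> decide +kernel

end CfsgLib.KnownSimple.GTwoThree
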